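import Cfsg.Agent.H28.PairCent.AutQuot
import Cfsg.Agent.H61.M24.Count
import Cfsg.Agent.H80.Fischer.Perfect

/-!
Type M(24): the common centraliser of two commuting members inside the derived group, and the
centraliser of their product there.  The index of the derived group enters as a hypothesis.
-/

set_option autoImplicit false

namespace Cfsg.Agent.H28.PairCent

open Cfsg.Agent.H93 Cfsg.Agent.H61.M24

variable {G : Type*} [Group G] {D : Set G}

/-- outside the derived group, any member brings an element into it -/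
theorem mem_or_mul_mem (htt : TT D) (hcls : ∀ a ∈ D, ∀ b ∈ D, IsConj a b)
    (hgen : Subgroup.closure D = ⊤) {d : G} (hd : d ∈ D) (g : G) :
    g ∈ commutator G ∨ g * d ∈ commutator G := by
  let q : G →* G ⧸ commutator G := QuotientGroup.mk' _
  have hqD : ∀ a ∈ D, q a = q d := by
    intro a ha
    obtain ⟨k, rfl⟩ := isConj_iff.mp (hcls d hd a ha)
    refine (QuotientGroup.eq.mpr ?_ : (QuotientGroup.mk (k * d * k⁻¹) : G ⧸ commutator G) = QuotientGroup.mk d)
    have h := Subgroup.commutator_mem_commutator (H₁ := (⊤ : Subgroup G)) (H₂ := ⊤)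
      (Subgroup.mem_top k) (Subgroup.mem_top d)
    rw [← commutator_def, commutatorElement_def] at h
    have e2 : (k * d * k⁻¹)⁻¹ * d = d⁻¹ * (k * d * k⁻¹ * d⁻¹)⁻¹ * d := by group
    rw [e2]
    simpa using (inferInstance : (commutator G).Normal).conj_mem _ (inv_mem h) d⁻¹
  have hle : (Subgroup.zpowers (q d)).comap q = ⊤ := by
    rw [eq_top_iff, ← hgen, Subgroup.closure_le]
    exact fun a ha => Subgroup.mem_comap.mpr (hqD a ha ▸ Subgroup.mem_zpowers _)
  obtain ⟨n, hn⟩ := Subgroup.mem_zpowers_iff.mp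
    (Subgroup.mem_comap.mp (hle ▸ Subgroup.mem_top g : g ∈ (Subgroup.zpowers (q d)).comap q))
  have h2 : q d * q d = 1 := by rw [← map_mul, htt.sq d hd, map_one]
  rcases Int.even_or_odd n with ⟨m, rfl⟩ | ⟨m, rfl⟩
  · left
    rw [← QuotientGroup.eq_one_iff]
    show q g = 1
    rw [← hn, zpow_add, ← (Commute.refl (q d)).mul_zpow, h2, one_zpow]
  · right
    rw [← QuotientGroup.eq_one_iff]
    show q (g * d) = 1
    rw [map_mul, ← hn, zpow_add, zpow_one, two_mul, zpow_add, ← (Commute.refl (q d)).mul_zpow, h2,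
      one_zpow, one_mul, h2]

/-- two members have a member commuting with neither -/
theorem exists_far_both [Finite G] (h : Geo24 D) {a b : G} (ha : a ∈ D) (hb : b ∈ D) :
    ∃ e ∈ D, ¬ Commute a e ∧ ¬ Commute b e := by
  by_contra hno
  simp only [not_exists, not_and, not_not] at hno
  have hsub : {y | y ∈ D ∧ ¬ Commute a y} ⊆ insert b (nb D b) := by
    rintro y ⟨hy, hn⟩
    by_cases e : y = b
    · exact Or.inl e
    · exact Or.inr ⟨hy, e, hno y hy hn⟩
  have h1 := Set.ncard_le_ncard hsub (Set.toFinite _)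
  rw [h.card_far ha, Set.ncard_insert_of_notMem (fun q => q.2.1 rfl) (Set.toFinite _),
    h.data.card_nb hb] at h1
  omega

/-- two commuting members are swapped by a conjugate of their product -/
theorem swap (htt : TT D) {a b e : G} (ha : a ∈ D) (hb : b ∈ D) (he : e ∈ D) (hc : Commute a b)
    (hna : ¬ Commute a e) (hnb : ¬ Commute b e) :
    (e * (a * b) * e⁻¹) * a * (e * (a * b) * e⁻¹)⁻¹ = b ∧
      (e * (a * b) * e⁻¹) * b * (e * (a * b) * e⁻¹)⁻¹ = a := by
  have key : ∀ a b : G, a ∈ D → b ∈ D → Commute a b → ¬ Commute a e → ¬ Commute b e →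
      (e * (a * b) * e⁻¹) * a * (e * (a * b) * e⁻¹)⁻¹ = b := by
    intro a b ha hb hc hna hnb
    have e1 : e * a * e = a * e * a := (htt.braid ha he hna).symm
    have e2 : e * b * e = b * e * b := (htt.braid hb he hnb).symm
    rw [mul_inv_rev, mul_inv_rev, mul_inv_rev, inv_inv, htt.inv_eq he, htt.inv_eq ha,
      htt.inv_eq hb]
    calc e * (a * b) * e * a * (e * (b * a * e))
        = e * (a * b) * (e * a * e) * (b * a * e) := by group
      _ = e * ((a * b) * a) * e * (a * (b * a)) * e := by rw [e1]; group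
      _ = e * ((b * a) * a) * e * (a * (a * b)) * e := by rw [hc.eq]
      _ = e * (b * (a * a)) * e * ((a * a) * b) * e := by group
      _ = e * b * e * (b * e) := by rw [htt.sq a ha]; group
      _ = b * e * b * (b * e) := by rw [e2]
      _ = b * e * (b * b) * e := by group
      _ = b * (e * e) := by rw [htt.sq b hb]; group
      _ = b := by rw [htt.sq e he, mul_one]
  refine ⟨key a b ha hb hc hna hnb, ?_⟩
  rw [hc.eq]
  exact key b a hb ha hc.symm hnb hna

set_option linter.unusedSectionVars false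

variable [Finite G] (h : Geo24 D) (hpar : ∀ a ∈ D, a ∉ commutator G)
  {d₁ d₂ : G} (h₁ : d₁ ∈ D) (h₂ : d₂ ∈ nb D d₁) {K CL : Subgroup G}
  (hK : K = commutator G ⊓ Subgroup.centralizer ({d₁, d₂} : Set G))
  (hCL : CL = commutator G ⊓ Subgroup.centralizer ({d₁ * d₂} : Set G))

omit [Finite G] in
include hK in
theorem mem_K {g : G} : g ∈ K ↔ g ∈ commutator G ∧ Commute g d₁ ∧ Commute g d₂ := by
  rw [hK, Subgroup.mem_inf, Subgroup.mem_centralizer_iff]
  simp only [Set.mem_insert_iff, Set.mem_singleton_iff, forall_eq_or_imp, forall_eq]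
  exact ⟨fun ⟨a, b, c⟩ => ⟨a, b.symm, c.symm⟩, fun ⟨a, b, c⟩ => ⟨a, b.symm, c.symm⟩⟩

omit [Finite G] in
include hCL in
theorem mem_CL {g : G} : g ∈ CL ↔ g ∈ commutator G ∧ Commute g (d₁ * d₂) := by
  rw [hCL, Subgroup.mem_inf, Subgroup.mem_centralizer_iff]
  simp only [Set.mem_singleton_iff, forall_eq]
  exact ⟨fun ⟨a, b⟩ => ⟨a, b.symm⟩, fun ⟨a, b⟩ => ⟨a, b.symm⟩⟩

omit [Finite G] in
include hK hCL in
theorem K_le : K ≤ CL := fun g hg => by
  obtain ⟨a, b, c⟩ := (mem_K hK).mp hg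
  exact (mem_CL hCL).mpr ⟨a, b.mul_right c⟩

include h hpar h₁ h₂ in
/-- the product of the two members lies in the derived group -/
theorem prod_mem : d₁ * d₂ ∈ commutator G := by
  rcases mem_or_mul_mem h.data.core.tt h.data.core.cls h.data.gen h₂.1 d₁ with q | q
  · exact absurd q (hpar d₁ h₁)
  · exact q

include h hpar h₁ h₂ hK in
theorem prod_mem_K : d₁ * d₂ ∈ K :=
  (mem_K hK).mpr ⟨prod_mem h hpar h₁ h₂, ((Commute.refl d₁).mul_left h₂.2.2.symm),
    (h₂.2.2.mul_left (Commute.refl d₂))⟩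

include h hpar h₁ h₂ hK in
/-- `K` is the centraliser of the image of the second member in the residue at the first -/
theorem exists_equiv : ∃ e : ↥K ≃* ↥(nbSub (resSet D d₁) (rimg D d₁ d₂)),
    ∀ k : ↥K, ∀ hk : (k : G) ∈ nbSub D d₁,
      ((e k : ↥(nbSub (resSet D d₁) (rimg D d₁ d₂))) : Residue D d₁) =
        QuotientGroup.mk (⟨(k : G), hk⟩ : ↥(nbSub D d₁)) := by
  have hcore := h.data.core
  have hKC : ∀ k : ↥K, (k : G) ∈ nbSub D d₁ := fun k => by
    rw [← h.cent d₁ h₁]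
    exact mem_cent ((mem_K hK).mp k.2).2.1.symm
  let f : ↥K →* Residue D d₁ := (QuotientGroup.mk' _).comp
    ({ toFun := fun k => ⟨(k : G), hKC k⟩, map_one' := rfl, map_mul' := fun _ _ => rfl } :
      ↥K →* ↥(nbSub D d₁))
  have hinj : Function.Injective f := by
    rw [injective_iff_map_eq_one]
    intro k hk
    rcases h.data.center_two h₁ (hKC k) hk with e | e
    · exact Subtype.ext e
    · exact absurd (e ▸ ((mem_K hK).mp k.2).1) (hpar d₁ h₁)
  have hcentR := (h.data.res d₁ h₁).1.cent _ (rimg_mem h₂)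
  have hrange : f.range = nbSub (resSet D d₁) (rimg D d₁ d₂) := by
    rw [← hcentR]
    refine le_antisymm ?_ fun γ hγ => ?_
    · rintro _ ⟨k, rfl⟩
      refine Subgroup.mem_centralizer_singleton_iff.mpr ?_
      rw [rimg_eq h₂]
      show (QuotientGroup.mk _ : Residue D d₁) * _ = _ * QuotientGroup.mk _
      rw [← QuotientGroup.mk_mul, ← QuotientGroup.mk_mul]
      exact congrArg QuotientGroup.mk (Subtype.ext ((mem_K hK).mp k.2).2.2.eq)
    obtain ⟨⟨g, hg⟩, rfl⟩ := QuotientGroup.mk_surjective γ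
    have hgd : g * d₂ * g⁻¹ = d₂ := by
      obtain ⟨hm, e⟩ := Geo23.rimg_conj hcore.tt h₁ hg h₂
      refine (hcore.rimg_inj h₁ hm h₂).mp (e.trans ?_)
      exact mul_inv_eq_iff_eq_mul.mpr (Subgroup.mem_centralizer_singleton_iff.mp hγ)
    have c2 : Commute g d₂ := mul_inv_eq_iff_eq_mul.mp hgd
    have c1 : Commute g d₁ := (nbSub_commute hg).symm
    rcases mem_or_mul_mem hcore.tt hcore.cls h.data.gen h₁ g with q | q
    · exact ⟨⟨g, (mem_K hK).mpr ⟨q, c1, c2⟩⟩, rfl⟩
    · refine ⟨⟨g * d₁, (mem_K hK).mpr ⟨q, c1.mul_left (Commute.refl d₁), c2.mul_left h₂.2.2⟩⟩, ?_⟩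
      show QuotientGroup.mk _ = QuotientGroup.mk _
      rw [QuotientGroup.eq]
      refine (h.center_iff h₁ _).mpr (Or.inr ?_)
      show (g * d₁)⁻¹ * g = d₁
      rw [mul_inv_rev, mul_assoc, inv_mul_cancel, mul_one, hcore.tt.inv_eq h₁]
  exact ⟨(MonoidHom.ofInjective hinj).trans (MulEquiv.subgroupCongr hrange), fun k hk => rfl⟩

include h hpar h₁ h₂ hK in
theorem quasisimple : Cfsg.IsQuasisimple ↥K ∧
    (Subgroup.center ↥K).map K.subtype = Subgroup.zpowers (d₁ * d₂) ∧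
    Nonempty (↥K ⧸ Subgroup.center ↥K ≃* Residue (resSet D d₁) (rimg D d₁ d₂)) := by
  obtain ⟨e, he⟩ := exists_equiv h hpar h₁ h₂ hK
  obtain ⟨f1, f2, f3, -⟩ :=
    H80.Fischer.cent23_facts (h.data.res d₁ h₁).1 (h.data.res d₁ h₁).2 (rimg_mem h₂)
  have hmap : (Subgroup.center ↥K).map e.toMonoidHom =
      Subgroup.center ↥(nbSub (resSet D d₁) (rimg D d₁ d₂)) := by
    ext z
    rw [Subgroup.mem_map_equiv, Subgroup.mem_center_iff, Subgroup.mem_center_iff]
    exact ⟨fun hz w => e.symm.injective (by simpa using hz (e.symm w)),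
      fun hz w => e.injective (by simpa using hz (e w))⟩
  let eq : ↥K ⧸ Subgroup.center ↥K ≃* Residue (resSet D d₁) (rimg D d₁ d₂) :=
    QuotientGroup.congr _ _ e hmap
  have hperf : Group.IsPerfect ↥K := by
    rw [Group.isPerfect_def]
    refine Subgroup.map_injective (f := e.toMonoidHom) e.injective ?_
    rw [commutator_def, Subgroup.map_commutator, Subgroup.map_top_of_surjective _ e.surjective,
      ← commutator_def, f1.commutator_eq_top]
  have htt := h.data.core.tt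
  have hj2 : d₁ * d₂ * (d₁ * d₂) = 1 := by
    calc d₁ * d₂ * (d₁ * d₂) = d₁ * (d₂ * d₁) * d₂ := by group
      _ = d₁ * (d₁ * d₂) * d₂ := by rw [h₂.2.2.symm.eq]
      _ = (d₁ * d₁) * (d₂ * d₂) := by group
      _ = 1 := by rw [htt.sq _ h₁, htt.sq _ h₂.1, one_mul]
  refine ⟨⟨hperf, haveI := f2; eq.isSimpleGroup⟩, ?_, ⟨eq⟩⟩
  have hjK := prod_mem_K h hpar h₁ h₂ hK
  have hjN : d₁ * d₂ ∈ nbSub D d₁ := by
    rw [← h.cent d₁ h₁]; exact mem_cent ((mem_K hK).mp hjK).2.1.symm
  have hej : ((e ⟨d₁ * d₂, hjK⟩ : ↥(nbSub (resSet D d₁) (rimg D d₁ d₂))) : Residue D d₁) =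
      rimg D d₁ d₂ := by
    rw [he _ hjN, rimg_eq h₂, QuotientGroup.eq]
    refine (h.center_iff h₁ _).mpr (Or.inr ?_)
    show (d₁ * d₂)⁻¹ * d₂ = d₁
    rw [mul_inv_rev, htt.inv_eq h₁, htt.inv_eq h₂.1, h₂.2.2.symm.eq, mul_assoc, htt.sq _ h₂.1,
      mul_one]
  refine le_antisymm ?_ (Subgroup.zpowers_le.mpr ?_)
  · rintro _ ⟨z, hz, rfl⟩
    have hz' : e z ∈ Subgroup.center ↥(nbSub (resSet D d₁) (rimg D d₁ d₂)) := hmap ▸ ⟨z, hz, rfl⟩
    rcases (f3 _).mp hz' with q | q
    · have : z = 1 := e.injective (Subtype.ext (by rw [map_one]; exact q))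
      rw [this, map_one]; exact one_mem _
    · have : z = ⟨d₁ * d₂, hjK⟩ := e.injective (Subtype.ext (q.trans hej.symm))
      rw [this]; exact Subgroup.mem_zpowers _
  · refine ⟨⟨d₁ * d₂, hjK⟩, ?_, rfl⟩
    have hz : e ⟨d₁ * d₂, hjK⟩ ∈ Subgroup.center ↥(nbSub (resSet D d₁) (rimg D d₁ d₂)) :=
      (f3 _).mpr (Or.inr hej)
    rw [← hmap] at hz
    obtain ⟨w, hw, ew⟩ := hz
    exact e.injective ew ▸ hw

include h h₁ h₂ hCL in
/-- the centraliser of the product permutes the two members -/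
theorem perm_pair {g : G} (hg : g ∈ CL) :
    (g * d₁ * g⁻¹ = d₁ ∧ g * d₂ * g⁻¹ = d₂) ∨ (g * d₁ * g⁻¹ = d₂ ∧ g * d₂ * g⁻¹ = d₁) := by
  have htt := h.data.core.tt
  have hne := h₂.2.1
  have hc := h₂.2.2
  set a := g * d₁ * g⁻¹ with ha
  set b := g * d₂ * g⁻¹ with hb
  have hab : Commute a b := by
    have := hc.map (MulAut.conj g).toMonoidHom
    simpa [ha, hb] using this
  have hprod : a * b = d₁ * d₂ := by
    have := ((mem_CL hCL).mp hg).2
    rw [ha, hb]
    calc g * d₁ * g⁻¹ * (g * d₂ * g⁻¹) = g * (d₁ * d₂) * g⁻¹ := by group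
      _ = _ := mul_inv_eq_iff_eq_mul.mpr this.eq
  have hne' : a ≠ b := fun q => hne
    (mul_left_cancel (mul_right_cancel (show g * d₁ * g⁻¹ = g * d₂ * g⁻¹ from q))).symm
  have hu := unique_factor htt (h.data.ind.mono (by norm_num)) 2 (by norm_num) (d₁ * d₂) [a, b] [d₁, d₂]
    ⟨by simp [hne'], rfl, by
      simp only [List.mem_cons, List.not_mem_nil, or_false, forall_eq_or_imp, forall_eq]
      exact ⟨htt.conj_mem g d₁ h₁, htt.conj_mem g d₂ h₂.1⟩, by
      simp only [List.mem_cons, List.not_mem_nil, or_false, forall_eq_or_imp, forall_eq]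
      exact ⟨⟨Commute.refl _, hab⟩, hab.symm, Commute.refl _⟩, by simpa using hprod⟩
    ⟨by simp [hne.symm], rfl, by simp [h₁, h₂.1], by
      simp only [List.mem_cons, List.not_mem_nil, or_false, forall_eq_or_imp, forall_eq]
      exact ⟨⟨Commute.refl _, hc⟩, hc.symm, Commute.refl _⟩, by simp⟩
  simp only [List.mem_cons, List.not_mem_nil, or_false] at hu
  rcases (hu a).mp (Or.inl rfl) with q | q
  · rcases (hu b).mp (Or.inr rfl) with r | r
    · exact absurd (q.trans r.symm) hne'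
    · exact Or.inl ⟨q, r⟩
  · rcases (hu b).mp (Or.inr rfl) with r | r
    · exact Or.inr ⟨q, r⟩
    · exact absurd (q.trans r.symm) hne'

include h hpar h₁ h₂ hK hCL in
theorem normal_index : (K.subgroupOf CL).Normal ∧ (K.subgroupOf CL).index = 2 := by
  have htt := h.data.core.tt
  have hj := prod_mem h hpar h₁ h₂
  obtain ⟨e, he, hn1, hn2⟩ := exists_far_both h h₁ h₂.1
  obtain ⟨s1, s2⟩ := swap htt h₁ h₂.1 he h₂.2.2 hn1 hn2
  set s := e * (d₁ * d₂) * e⁻¹
  have hs : s ∈ CL := by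
    refine (mem_CL hCL).mpr ⟨(inferInstance : (commutator G).Normal).conj_mem _ hj e, ?_⟩
    refine mul_inv_eq_iff_eq_mul.mp ?_
    calc s * (d₁ * d₂) * s⁻¹ = (s * d₁ * s⁻¹) * (s * d₂ * s⁻¹) := by group
      _ = _ := by rw [s1, s2, h₂.2.2.eq]
  have fixK : ∀ {g : G}, g ∈ CL → g * d₁ * g⁻¹ = d₁ → g ∈ K := fun {g} hg hf => by
    refine (mem_K hK).mpr ⟨((mem_CL hCL).mp hg).1, mul_inv_eq_iff_eq_mul.mp hf, ?_⟩
    rcases perm_pair h h₁ h₂ hCL hg with q | q
    · exact mul_inv_eq_iff_eq_mul.mp q.2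
    · exact absurd (q.1.symm.trans hf) h₂.2.1
  have hidx : (K.subgroupOf CL).index = 2 := by
    rw [Subgroup.index_eq_two_iff]
    refine ⟨⟨s, hs⟩, fun b => ?_⟩
    rw [Subgroup.mem_subgroupOf, Subgroup.mem_subgroupOf]
    rcases perm_pair h h₁ h₂ hCL b.2 with q | q
    · refine Or.inr ⟨fixK b.2 q.1, fun r => ?_⟩
      have r1 := ((mem_K hK).mp r).2.1
      have : (b : G) * s * d₁ * ((b : G) * s)⁻¹ = d₁ := mul_inv_eq_iff_eq_mul.mpr r1.eq
      rw [show (b : G) * s * d₁ * ((b : G) * s)⁻¹ = (b : G) * (s * d₁ * s⁻¹) * (b : G)⁻¹ by group,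
        s1, q.2] at this
      exact h₂.2.1 this
    · refine Or.inl ⟨fixK (mul_mem b.2 hs) ?_, fun r => ?_⟩
      · show (b : G) * s * d₁ * ((b : G) * s)⁻¹ = d₁
        rw [show (b : G) * s * d₁ * ((b : G) * s)⁻¹ = (b : G) * (s * d₁ * s⁻¹) * (b : G)⁻¹ by group,
          s1, q.2]
      · exact h₂.2.1 (q.1.symm.trans (mul_inv_eq_iff_eq_mul.mpr ((mem_K hK).mp r).2.1.eq))
  exact ⟨Subgroup.normal_of_index_eq_two hidx, hidx⟩

include h hpar h₁ h₂ hK hCL in
theorem centralizer_le :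
    Subgroup.centralizer ((K.subgroupOf CL : Subgroup ↥CL) : Set ↥CL) ≤ K.subgroupOf CL := by
  have htt := h.data.core.tt
  rintro ⟨g, hg⟩ hgc
  rw [Subgroup.mem_subgroupOf]
  rcases perm_pair h h₁ h₂ hCL hg with q | q
  · exact (mem_K hK).mpr
      ⟨((mem_CL hCL).mp hg).1, mul_inv_eq_iff_eq_mul.mp q.1, mul_inv_eq_iff_eq_mul.mp q.2⟩
  exfalso
  -- a member commuting with both
  obtain ⟨ξ, hξ⟩ := (h.data.res d₁ h₁).2.core.edge _ (rimg_mem h₂)
  obtain ⟨x, ⟨hx1, hx2⟩, -⟩ := h.data.core.rimg_nb_surj h₁ h₂ hξ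
  have hxL : x * d₁ ∈ commutator G :=
    (mem_or_mul_mem htt h.data.core.cls h.data.gen h₁ x).resolve_left (hpar x hx1.1)
  have hxK : x * d₁ ∈ K := (mem_K hK).mpr ⟨hxL, (hx1.2.2.symm.mul_left (Commute.refl d₁)),
    (hx2.2.2.symm.mul_left h₂.2.2)⟩
  have hcom : x * d₁ * g = g * (x * d₁) := congrArg Subtype.val
    (Subgroup.mem_centralizer_iff.mp hgc (⟨x * d₁, K_le hK hCL hxK⟩ : ↥CL)
      (Subgroup.mem_subgroupOf.mpr hxK))
  set y := g * x * g⁻¹ with hy
  have hyD : y ∈ D := htt.conj_mem g x hx1.1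
  have hyd : y * d₂ = x * d₁ := by
    rw [hy, ← q.1]
    calc g * x * g⁻¹ * (g * d₁ * g⁻¹) = g * (x * d₁) * g⁻¹ := by group
      _ = _ := by rw [← hcom]; group
  have hcy : Commute y d₂ := by
    have := hx1.2.2.symm.map (MulAut.conj g).toMonoidHom
    simpa [hy, q.1] using this
  have hne : x ≠ d₁ := hx1.2.1
  have hny : y ≠ d₂ := fun e => hne
    (mul_left_cancel (mul_right_cancel (show g * x * g⁻¹ = g * d₁ * g⁻¹ from by rw [q.1]; exact e)))
  have hu := unique_factor htt (h.data.ind.mono (by norm_num)) 2 (by norm_num) (x * d₁) [x, d₁] [y, d₂]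
    ⟨by simp [hne], rfl, by simp [hx1.1, h₁], by
      simp only [List.mem_cons, List.not_mem_nil, or_false, forall_eq_or_imp, forall_eq]
      exact ⟨⟨Commute.refl _, hx1.2.2.symm⟩, hx1.2.2, Commute.refl _⟩, by simp⟩
    ⟨by simp [hny], rfl, by simp [hyD, h₂.1], by
      simp only [List.mem_cons, List.not_mem_nil, or_false, forall_eq_or_imp, forall_eq]
      exact ⟨⟨Commute.refl _, hcy⟩, hcy.symm, Commute.refl _⟩, by simpa using hyd⟩
  simp only [List.mem_cons, List.not_mem_nil, or_false] at hu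
  rcases (hu d₂).mpr (Or.inr rfl) with e | e
  · exact hx2.2.1 e.symm
  · exact h₂.2.1 e

include h hpar h₁ h₂ hK hCL in
/-- the pair centraliser in the derived group -/
theorem main : Cfsg.IsQuasisimple ↥K ∧ K = (Cfsg.generalizedFittingSubgroup ↥CL).map CL.subtype ∧
    K ≤ CL ∧ (K.subgroupOf CL).index = 2 ∧ d₁ * d₂ ∈ K ∧
    ∀ [((Subgroup.zpowers (d₁ * d₂)).subgroupOf CL).Normal] (T : Type) [Group T],
      Nonempty (Residue (resSet D d₁) (rimg D d₁ d₂) ≃* T) → Nat.card (Cfsg.Out T) = 2 →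
        Nonempty (↥CL ⧸ (Subgroup.zpowers (d₁ * d₂)).subgroupOf CL ≃* MulAut T) := by
  obtain ⟨hq, hcen, ⟨eq⟩⟩ := quasisimple h hpar h₁ h₂ hK
  have hle := K_le hK hCL
  have hjK := prod_mem_K h hpar h₁ h₂ hK
  obtain ⟨hnor, hidx⟩ := normal_index h hpar h₁ h₂ hK hCL
  have hC := centralizer_le h hpar h₁ h₂ hK hCL
  let e : ↥(K.subgroupOf CL) ≃* ↥K := Subgroup.subgroupOfEquivOfLe hle
  have hmap : (Subgroup.center ↥(K.subgroupOf CL)).map e.toMonoidHom = Subgroup.center ↥K := by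
    ext z
    rw [Subgroup.mem_map_equiv, Subgroup.mem_center_iff, Subgroup.mem_center_iff]
    exact ⟨fun hz w => e.symm.injective (by simpa using hz (e.symm w)),
      fun hz w => e.injective (by simpa using hz (e w))⟩
  have hperf' : Group.IsPerfect ↥(K.subgroupOf CL) := by
    rw [Group.isPerfect_def]
    refine Subgroup.map_injective (f := e.toMonoidHom) e.injective ?_
    rw [commutator_def, Subgroup.map_commutator, Subgroup.map_top_of_surjective _ e.surjective,
      ← commutator_def, hq.1.commutator_eq_top]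
  let ec := QuotientGroup.congr _ _ e hmap
  have hq' : Cfsg.IsQuasisimple ↥(K.subgroupOf CL) := ⟨hperf', haveI := hq.2; ec.isSimpleGroup⟩
  refine ⟨hq, ?_, hle, hidx, hjK, fun {hn} T _ hT hout => ?_⟩
  · rw [genFitting_eq_of_quasisimple _ hq' hC, Subgroup.subgroupOf_map_subtype, inf_eq_left.mpr hle]
  obtain ⟨eT⟩ := hT
  have hZK : (Subgroup.zpowers (d₁ * d₂)).subgroupOf CL ≤ K.subgroupOf CL :=
    Subgroup.comap_mono (Subgroup.zpowers_le.mpr hjK)
  have hZ : (Subgroup.center ↥(K.subgroupOf CL)).map (K.subgroupOf CL).subtype =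
      (Subgroup.zpowers (d₁ * d₂)).subgroupOf CL := by
    refine Subgroup.map_injective (f := CL.subtype) CL.subtype_injective ?_
    rw [Subgroup.subgroupOf_map_subtype, inf_eq_left.mpr ((Subgroup.zpowers_le.mpr hjK).trans hle),
      ← hcen, ← hmap, Subgroup.map_map, Subgroup.map_map]
    rfl
  obtain ⟨K', iK, iKF, h22⟩ := (h.data.res d₁ h₁).1.res _ (rimg_mem h₂)
  have hRc : Subgroup.center (Residue (resSet D d₁) (rimg D d₁ d₂)) = ⊥ :=
    (H80.Fischer.residue23_simple (h.data.res d₁ h₁).1 (rimg_mem h₂)).2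
  have hTc : Subgroup.center T = ⊥ := by
    rw [eq_bot_iff]
    intro z hz
    have : eT.symm z ∈ Subgroup.center (Residue (resSet D d₁) (rimg D d₁ d₂)) :=
      Subgroup.mem_center_iff.mpr fun w => eT.injective (by simpa using Subgroup.mem_center_iff.mp hz (eT w))
    rw [hRc, Subgroup.mem_bot] at this
    exact Subgroup.mem_bot.mpr (by simpa using congrArg eT this)
  exact quot_aut _ _ hZK hperf' hZ hC hidx (ec.trans (eq.trans eT)) hTc hout

end Cfsg.Agent.H28.PairCent
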